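import Groth.Agent.AxisTrivLib.Norm
import Groth.Agent.SquareLib.PicOpenAffineSpace
import Groth.Agent.HurwitzLib.SmoothCurve
import Groth.Agent.PicRelBCLib.Basic

/-!
Triviality on a product with an open of affine space, and normalised trivialisations after base change.
-/

set_option autoImplicit false
set_option linter.style.haveILetI false
set_option backward.isDefEq.respectTransparency false
set_option maxHeartbeats 1000000

noncomputable section

universe u

open CategoryTheory CategoryTheory.Limits AlgebraicGeometry TopologicalSpace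
open AmpleLib (GenOn res)
open KFlatLib (pb puSec)
open QCohDescLib (pullLE)
open DescAppLib (genOn_pullLE appLE_top smul_left_cancel top_le)

namespace AxisTriv

theorem isTrivialCl_pull {X Y : Scheme.{u}} (g : Y ⟶ X) {c : PicF.Cl X} (h : PicF.IsTrivialCl c) :
    PicF.IsTrivialCl (PicF.pullCl g c) := by
  rw [show c = PicF.cl (Coh.structureModule X) from h]
  exact Quot.sound ⟨KFlatLib.pullUnitIso g⟩

theorem isTrivialCl_of_iso {X Y : Scheme.{u}} (g : Y ⟶ X) [IsIso g] {c : PicF.Cl X}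
    (h : PicF.IsTrivialCl (PicF.pullCl g c)) : PicF.IsTrivialCl c := by
  have := isTrivialCl_pull (inv g) h
  rwa [PicRelBCLib.pullCl_pullCl, IsIso.inv_hom_id, PicRelBCLib.pullCl_id] at this

theorem nonempty_iso_of_isTrivialCl {X : Scheme.{u}} {M : X.Modules} (h : PicF.IsTrivialCl (PicF.cl M)) :
    Nonempty (M ≅ Coh.structureModule X) :=
  (Quot.eqvGen_exact h).rec (fun _ _ h => h) (fun _ => ⟨Iso.refl _⟩) (fun _ _ _ h => ⟨h.some.symm⟩) (fun _ _ _ _ _ h h' => ⟨h.some ≪≫ h'.some⟩)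

/-- On a product of an open of affine space with a normal scheme, triviality on the axis suffices. -/
theorem trivial_of_open {K : Type u} [Field K] {A B W : Scheme.{u}} {n : ℕ}
    (j : A ⟶ 𝔸(ULift.{u} (Fin n); Spec (CommRingCat.of K))) [IsOpenImmersion j]
    (pA : A ⟶ Spec (CommRingCat.of K)) (hj : j ≫ (𝔸(ULift.{u} (Fin n); Spec (CommRingCat.of K)) ↘ _) = pA)
    (qB : B ⟶ Spec (CommRingCat.of K)) [IsIntegral B] [IsNoetherian B] (hB : Pi1.IsNormalScheme B)
    (π₁ : W ⟶ A) (π₂ : W ⟶ B) (H : IsPullback π₁ π₂ pA qB) (a : Spec (CommRingCat.of K) ⟶ A) (ha : a ≫ pA = 𝟙 _)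
    (M : W.Modules) (hM : PicF.IsInvertible M)
    (hax : ∀ (σ : B ⟶ W), σ ≫ π₁ = qB ≫ a → σ ≫ π₂ = 𝟙 B → PicF.IsTrivialCl (PicF.pullCl σ (PicF.cl M))) :
    PicF.IsTrivialCl (PicF.cl M) := by
  haveI : IsNoetherian (Spec (CommRingCat.of K)) := inferInstance
  let U := j.opensRange
  let i : A ≅ U.toScheme := j.isoOpensRange
  have hi : i.inv ≫ pA = U.ι ≫ (𝔸(ULift.{u} (Fin n); Spec (CommRingCat.of K)) ↘ _) := by
    rw [← hj, ← Category.assoc, Scheme.Hom.isoOpensRange_inv_comp]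
  have hi' : i.hom ≫ U.ι = j := Scheme.Hom.isoOpensRange_hom_ι j
  let u₀ : Spec (CommRingCat.of K) ⟶ U.toScheme := a ≫ i.hom
  have hu₀ : u₀ ≫ U.ι ≫ (𝔸(ULift.{u} (Fin n); Spec (CommRingCat.of K)) ↘ Spec (CommRingCat.of K)) = 𝟙 _ := by
    simp only [u₀, Category.assoc, reassoc_of% hi', hj, ha]
  let q := U.ι ≫ (𝔸(ULift.{u} (Fin n); Spec (CommRingCat.of K)) ↘ Spec (CommRingCat.of K))
  let ψ : pullback qB q ⟶ W := H.lift (pullback.snd qB q ≫ i.inv) (pullback.fst qB q) (by
    rw [Category.assoc, hi, pullback.condition])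
  let ψ' : W ⟶ pullback qB q := pullback.lift π₂ (π₁ ≫ i.hom) (by
    simp only [q, Category.assoc, reassoc_of% hi', hj]; exact H.w.symm)
  haveI : IsIso ψ := by
    refine ⟨ψ', ?_, ?_⟩
    · apply pullback.hom_ext <;> simp [ψ, ψ']
    · apply H.hom_ext <;> simp [ψ, ψ']
  refine isTrivialCl_of_iso ψ ?_
  obtain ⟨c, ⟨-, hcp⟩, -⟩ := SquareLib.pullCl_bijective U qB u₀ hu₀ hB (PicF.pullCl ψ (PicF.cl M))
    (PicRelBCLib.isInvertibleCl_pullCl ψ ⟨M, rfl, hM⟩)
  let σ₀ : B ⟶ pullback qB q := pullback.lift (𝟙 B) (qB ≫ u₀) (by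
    rw [Category.id_comp, Category.assoc, hu₀, Category.comp_id])
  have hc : PicF.IsTrivialCl c := by
    have h := hax (σ₀ ≫ ψ) (by simp [σ₀, ψ, u₀]) (by simp [σ₀, ψ])
    rw [← PicRelBCLib.pullCl_pullCl, ← hcp, PicRelBCLib.pullCl_pullCl] at h
    rwa [show σ₀ ≫ pullback.fst qB q = 𝟙 B from pullback.lift_fst _ _ _, PicRelBCLib.pullCl_id] at h
  rw [← hcp]
  exact isTrivialCl_pull _ hc

section Exists

variable {k : Type u} [Field k] {A B : Scheme.{u}} (p : A ⟶ Spec (CommRingCat.of k))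
  (q : B ⟶ Spec (CommRingCat.of k)) {a₀ : Spec (CommRingCat.of k) ⟶ A} (ha : a₀ ≫ p = 𝟙 _)
  {b₀ : Spec (CommRingCat.of k) ⟶ B} (hb : b₀ ≫ q = 𝟙 _)

/-- A trivialisation after base change can be normalised along both axes. -/
theorem exists_norm {T : Scheme.{u}} (t : T ⟶ Spec (CommRingCat.of k)) {L : (pullback p q).Modules}
    {α : Γ(pb (ax₁ p q hb) L, ⊤)} {β : Γ(pb (ax₂ p q ha) L, ⊤)} (hα : GenOn _ α) (hβ : GenOn _ β)
    (hab : pullLE L a₀ (origin p q ha hb) (top_le _) α = pullLE L b₀ rfl (top_le _) β)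
    {s : Γ(pb (pullback.fst (str p q) t) L, ⊤)} (hs : GenOn _ s) :
    ∃ s' : Γ(pb (pullback.fst (str p q) t) L, ⊤), GenOn _ s' ∧
      Norm L _ α (pullback.fst (str p q) t) s' ∧ Norm L _ β (pullback.fst (str p q) t) s' := by
  let W := pullback (str p q) t
  let h := pullback.fst (str p q) t
  let τ := pullback.snd (str p q) t
  let AK := pullback p t
  let BK := pullback q t
  let π₁ : W ⟶ AK := pullback.lift (h ≫ pullback.fst p q) τ (by rw [Category.assoc]; exact pullback.condition)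
  let π₂ : W ⟶ BK := pullback.lift (h ≫ pullback.snd p q) τ (by
    rw [Category.assoc, ← pullback.condition]; exact pullback.condition)
  let c₁ : AK ⟶ W := pullback.lift (pullback.fst p t ≫ ax₁ p q hb) (pullback.snd p t) (by
    rw [Category.assoc, ax₁_str, pullback.condition])
  let c₂ : BK ⟶ W := pullback.lift (pullback.fst q t ≫ ax₂ p q ha) (pullback.snd q t) (by
    rw [Category.assoc, ax₂_str, pullback.condition])
  let e₁ : T ⟶ AK := pullback.lift (t ≫ a₀) (𝟙 T) (by rw [Category.assoc, ha, Category.comp_id, Category.id_comp])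
  let e₂ : T ⟶ BK := pullback.lift (t ≫ b₀) (𝟙 T) (by rw [Category.assoc, hb, Category.comp_id, Category.id_comp])
  have ec₁ : c₁ ≫ h = pullback.fst p t ≫ ax₁ p q hb := pullback.lift_fst _ _ _
  have ec₂ : c₂ ≫ h = pullback.fst q t ≫ ax₂ p q ha := pullback.lift_fst _ _ _
  obtain ⟨u₁, hu₁, hu₁e⟩ := exists_unit (genOn_pullLE L (pullback.fst p t) rfl (top_le _) hα)
    (genOn_pullLE L c₁ ec₁ (top_le _) hs)
  obtain ⟨u₂, hu₂, hu₂e⟩ := exists_unit (genOn_pullLE L (pullback.fst q t) rfl (top_le _) hβ)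
    (genOn_pullLE L c₂ ec₂ (top_le _) hs)
  let o : T ⟶ pullback p q := t ≫ a₀ ≫ ax₁ p q hb
  have oA : e₁ ≫ pullback.fst p t ≫ ax₁ p q hb = o := pullback.lift_fst_assoc _ _ _ _ |>.trans (Category.assoc _ _ _)
  have oB : e₂ ≫ pullback.fst q t ≫ ax₂ p q ha = o := by
    simp only [o, origin p q ha hb]
    exact pullback.lift_fst_assoc _ _ _ _ |>.trans (Category.assoc _ _ _)
  have hcc : e₁ ≫ c₁ = e₂ ≫ c₂ := by
    apply pullback.hom_ext
    · simp only [Category.assoc]; rw [ec₁, ec₂, oA, oB]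
    · simp [c₁, c₂, e₁, e₂]
  have hc : e₁.appTop u₁ = e₂.appTop u₂ := by
    have hgen : GenOn _ (pullLE L t (h' := o) (show t ≫ a₀ ≫ ax₁ p q hb = o from rfl) (top_le _)
        (pullLE L a₀ rfl (top_le _) α)) :=
      genOn_pullLE L t _ (top_le _) (genOn_pullLE L a₀ rfl (top_le _) hα)
    refine smul_left_cancel hgen ?_
    have h1 := congrArg (pullLE L e₁ oA (top_le _)) hu₁e
    have h2 := congrArg (pullLE L e₂ oB (top_le _)) hu₂e
    have ee₁ : (e₁ ≫ c₁) ≫ h = o := by rw [Category.assoc, ec₁, oA]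
    have ee₂ : (e₂ ≫ c₂) ≫ h = o := by rw [Category.assoc, ec₂, oB]
    have e1 : e₁ ≫ pullback.fst p t = t ≫ a₀ := pullback.lift_fst _ _ _
    have e2 : e₂ ≫ pullback.fst q t = t ≫ b₀ := pullback.lift_fst _ _ _
    rw [QCohDescLib.pullLE_smul, appLE_top, QCohDescLib.pullLE_pullLE L _ e₁ ec₁ oA ee₁ (top_le _) (top_le _) (top_le _)]
      at h1
    rw [QCohDescLib.pullLE_smul, appLE_top, QCohDescLib.pullLE_pullLE L _ e₂ ec₂ oB ee₂ (top_le _) (top_le _) (top_le _),
      QCohDescLib.pullLE_congr L hcc.symm ee₂ ee₁ (top_le _) (top_le _)] at h2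
    have hA : pullLE L e₁ oA (top_le _) (pullLE L (pullback.fst p t) rfl (top_le _) α) =
        pullLE L t (h' := o) (show t ≫ a₀ ≫ ax₁ p q hb = o from rfl) (top_le _) (pullLE L a₀ rfl (top_le _) α) :=
      QCohDescLib.pullLE_pullLE_eq L e₁ _ t a₀ e1 rfl rfl oA rfl (top_le _) (top_le _) (top_le _) (top_le _) α
    have hB : pullLE L e₂ oB (top_le _) (pullLE L (pullback.fst q t) rfl (top_le _) β) =
        pullLE L t (h' := o) (show t ≫ a₀ ≫ ax₁ p q hb = o from rfl) (top_le _) (pullLE L a₀ rfl (top_le _) α) := by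
      have hob : t ≫ b₀ ≫ ax₂ p q ha = o := by simp only [o, origin p q ha hb]
      have e3 : (𝟙 _ : Spec (CommRingCat.of k) ⟶ _) ≫ a₀ ≫ ax₁ p q hb = b₀ ≫ ax₂ p q ha := by
        rw [Category.id_comp, origin]
      refine (QCohDescLib.pullLE_pullLE_eq L e₂ _ t b₀ e2 rfl rfl oB hob (top_le _) (top_le _) (top_le _) (top_le _)
        β).trans ?_
      rw [← hab]
      exact QCohDescLib.pullLE_pullLE_eq L t a₀ t a₀ rfl _ rfl hob rfl (top_le _) (top_le _) (top_le _) (top_le _) α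
    rw [hA] at h1
    rw [hB] at h2
    exact h1.trans h2.symm
  let c := e₁.appTop u₁
  have hcu : IsUnit c := hu₁.map e₁.appTop.hom
  obtain ⟨c', hc'⟩ := hcu.exists_left_inv
  let v : Γ(W, ⊤) := π₁.appTop u₁ * π₂.appTop u₂ * τ.appTop c'
  have hv : IsUnit v := ((hu₁.map π₁.appTop.hom).mul (hu₂.map π₂.appTop.hom)).mul
    ((IsUnit.of_mul_eq_one _ hc').map τ.appTop.hom)
  obtain ⟨v', hv'⟩ := hv.exists_left_inv
  have hv₁ : c₁.appTop v = u₁ := by
    have r1 : c₁ ≫ π₁ = 𝟙 AK := by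
      apply pullback.hom_ext
      · simp [π₁, c₁, h]
      · simp [π₁, c₁, τ]
    have r2 : c₁ ≫ π₂ = pullback.snd p t ≫ e₂ := by
      apply pullback.hom_ext
      · simp only [π₂, e₂, Category.assoc, pullback.lift_fst, reassoc_of% ec₁, ax₁_snd]
        rw [pullback.condition_assoc]
      · simp [π₂, e₂, c₁, τ]
    have r3 : c₁.appTop (τ.appTop c') = (pullback.snd p t).appTop c' :=
      appTop_eq c₁ τ (pullback.lift_snd _ _ _) c'
    simp only [v, map_mul, appTop_eq _ _ r1, appTop_eq _ _ r2, r3]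
    rw [Scheme.Hom.comp_appTop, ConcreteCategory.comp_apply, ← hc, _root_.mul_assoc, ← map_mul,
      _root_.mul_comm _ c', hc', map_one, _root_.mul_one]
    rfl
  have hv₂ : c₂.appTop v = u₂ := by
    have r2 : c₂ ≫ π₂ = 𝟙 BK := by
      apply pullback.hom_ext
      · simp [π₂, c₂, h]
      · simp [π₂, c₂, τ]
    have r1 : c₂ ≫ π₁ = pullback.snd q t ≫ e₁ := by
      apply pullback.hom_ext
      · simp only [π₁, e₁, Category.assoc, pullback.lift_fst, reassoc_of% ec₂, ax₂_fst]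
        rw [pullback.condition_assoc]
      · simp [π₁, e₁, c₂, τ]
    have r3 : c₂.appTop (τ.appTop c') = (pullback.snd q t).appTop c' :=
      appTop_eq c₂ τ (pullback.lift_snd _ _ _) c'
    simp only [v, map_mul, appTop_eq _ _ r1, appTop_eq _ _ r2, r3]
    rw [Scheme.Hom.comp_appTop, ConcreteCategory.comp_apply, _root_.mul_comm _ ((𝟙 BK : BK ⟶ BK).appTop u₂),
      _root_.mul_assoc, ← map_mul, _root_.mul_comm _ c', hc', map_one, _root_.mul_one]
    rfl
  refine ⟨v' • s, CubeLib.genOn_unit_smul hs (IsUnit.of_mul_eq_one _ hv'), ?_, ?_⟩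
  · refine Norm.of_universal c₁ (pullback.fst p t) ec₁ rfl (fun Y c d e => ?_) ?_
    · have hd : d ≫ p = (c ≫ τ) ≫ t := by
        have := congrArg (· ≫ str p q) e
        simp only [Category.assoc, ax₁_str] at this
        rw [← this, Category.assoc]
        exact congrArg (c ≫ ·) pullback.condition
      refine ⟨pullback.lift d (c ≫ τ) hd, ?_, pullback.lift_fst _ _ _⟩
      apply pullback.hom_ext
      · rw [Category.assoc, ec₁, pullback.lift_fst_assoc]; exact e.symm
      · rw [Category.assoc, show c₁ ≫ τ = pullback.snd p t from pullback.lift_snd _ _ _]; exact pullback.lift_snd _ _ _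
    · rw [QCohDescLib.pullLE_smul, appLE_top, ← hu₁e, ← hv₁, smul_smul, ← map_mul, hv', map_one, one_smul]
  · refine Norm.of_universal c₂ (pullback.fst q t) ec₂ rfl (fun Y c d e => ?_) ?_
    · have hd : d ≫ q = (c ≫ τ) ≫ t := by
        have := congrArg (· ≫ str p q) e
        simp only [Category.assoc, ax₂_str] at this
        rw [← this, Category.assoc]
        exact congrArg (c ≫ ·) pullback.condition
      refine ⟨pullback.lift d (c ≫ τ) hd, ?_, pullback.lift_fst _ _ _⟩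
      apply pullback.hom_ext
      · rw [Category.assoc, ec₂, pullback.lift_fst_assoc]; exact e.symm
      · rw [Category.assoc, show c₂ ≫ τ = pullback.snd q t from pullback.lift_snd _ _ _]; exact pullback.lift_snd _ _ _
    · rw [QCohDescLib.pullLE_smul, appLE_top, ← hu₂e, ← hv₂, smul_smul, ← map_mul, hv', map_one, one_smul]

end Exists

end AxisTriv
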