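import Groth.Agent.UnipStructLib.Shape
import Groth.Agent.SemiAbLib.Torus

/-!
Connected commutative affine groups over an algebraically closed field are open in an affine space.
-/

set_option autoImplicit false
set_option linter.style.haveILetI false
set_option backward.isDefEq.respectTransparency false
set_option maxHeartbeats 1000000

noncomputable section

universe u

open CategoryTheory CategoryTheory.Limits MonoidalCategory CartesianMonoidalCategory MonObj AlgebraicGeometry
open WittGrp WittGrpLib CoactBr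
open Groth.Agent

attribute [-instance] CategoryTheory.Hom.commGroup

namespace AxisTriv

variable {k : Type u} [Field k]

local notation "SK" => Spec (CommRingCat.of k)
local notation "PT" => 𝟙_ (Over (Spec (CommRingCat.of k)))

section Laurent

variable (k) (r : ℕ)

abbrev Lau : Type u := MonoidAlgebra k (Multiplicative (Fin r → ℤ))

abbrev Poly : Type u := MvPolynomial (ULift.{u} (Fin r)) k

def prodX : Poly k r := ∏ i, MvPolynomial.X i

abbrev Loc : Type u := Localization.Away (prodX k r)

theorem isUnit_X (i : ULift.{u} (Fin r)) : IsUnit (algebraMap (Poly k r) (Loc k r) (MvPolynomial.X i)) := by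
  refine isUnit_of_dvd_unit (map_dvd _ (Finset.dvd_prod_of_mem _ (Finset.mem_univ i))) ?_
  exact IsLocalization.Away.algebraMap_isUnit (prodX k r)

/-- The characters, as units of the localised polynomial ring. -/
def chi : Multiplicative (Fin r → ℤ) →* Loc k r where
  toFun v := ((∏ i, (isUnit_X k r ⟨i⟩).unit ^ (Multiplicative.toAdd v i) : (Loc k r)ˣ) : Loc k r)
  map_one' := by simp
  map_mul' v w := by
    rw [← Units.val_mul, ← Finset.prod_mul_distrib]
    congr 1
    exact Finset.prod_congr rfl fun i _ => by rw [toAdd_mul, Pi.add_apply, zpow_add]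

def toLoc : Lau k r →ₐ[k] Loc k r := MonoidAlgebra.lift k (Loc k r) (Multiplicative (Fin r → ℤ)) (chi k r)

def ev : Poly k r →ₐ[k] Lau k r :=
  MvPolynomial.aeval fun i => MonoidAlgebra.of k _ (Multiplicative.ofAdd (Pi.single i.down (1 : ℤ)))

theorem isUnit_ev_prodX : IsUnit (ev k r (prodX k r)) := by
  rw [prodX, map_prod]
  refine IsUnit.prod_iff.2 fun i _ => ?_
  rw [ev, MvPolynomial.aeval_X]
  exact (Group.isUnit _).map (MonoidAlgebra.of k (Multiplicative (Fin r → ℤ)))

def ofLoc : Loc k r →+* Lau k r := IsLocalization.Away.lift (prodX k r) (g := (ev k r).toRingHom) (isUnit_ev_prodX k r)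

theorem ofLoc_algebraMap (f : Poly k r) : ofLoc k r (algebraMap _ (Loc k r) f) = ev k r f :=
  IsLocalization.Away.lift_eq (prodX k r) (isUnit_ev_prodX k r) f

theorem chi_single (i : Fin r) :
    chi k r (Multiplicative.ofAdd (Pi.single i (1 : ℤ))) = algebraMap (Poly k r) (Loc k r) (MvPolynomial.X (ULift.up i)) := by
  show ((∏ j, (isUnit_X k r ⟨j⟩).unit ^ (Pi.single i (1 : ℤ) : Fin r → ℤ) j : (Loc k r)ˣ) : Loc k r) = _
  rw [Finset.prod_eq_single i (fun j _ hj => by rw [Pi.single_eq_of_ne hj, zpow_zero])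
    (fun h => absurd (Finset.mem_univ i) h), Pi.single_eq_same, zpow_one]
  rfl

theorem ofLoc_chi_single (i : Fin r) :
    ofLoc k r (chi k r (Multiplicative.ofAdd (Pi.single i (1 : ℤ)))) =
      MonoidAlgebra.of k _ (Multiplicative.ofAdd (Pi.single i (1 : ℤ))) := by
  rw [chi_single, ofLoc_algebraMap, ev, MvPolynomial.aeval_X]

theorem eq_prod_single (v : Multiplicative (Fin r → ℤ)) :
    v = ∏ i, Multiplicative.ofAdd (Pi.single i (1 : ℤ)) ^ (Multiplicative.toAdd v i) := by
  apply Multiplicative.toAdd.injective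
  rw [toAdd_prod]
  funext j
  simp [Pi.single_apply]

theorem ofLoc_chi (v : Multiplicative (Fin r → ℤ)) : ofLoc k r (chi k r v) = MonoidAlgebra.of k _ v := by
  let φ₁ : Multiplicative (Fin r → ℤ) →* (Lau k r)ˣ := ((ofLoc k r).toMonoidHom.comp (chi k r)).toHomUnits
  let φ₂ : Multiplicative (Fin r → ℤ) →* (Lau k r)ˣ := (MonoidAlgebra.of k (Multiplicative (Fin r → ℤ))).toHomUnits
  have h : φ₁ v = φ₂ v := by
    rw [eq_prod_single r v, map_prod, map_prod]
    refine Finset.prod_congr rfl fun i _ => ?_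
    rw [map_zpow, map_zpow]
    congr 1
    exact Units.ext (ofLoc_chi_single k r i)
  exact congrArg Units.val h

theorem ofLoc_toLoc (a : Lau k r) : ofLoc k r (toLoc k r a) = a := by
  induction a using MonoidAlgebra.induction_on with
  | of v => rw [toLoc, MonoidAlgebra.lift_of, ofLoc_chi]
  | add a b ha hb => rw [map_add, map_add, ha, hb]
  | smul c a ha =>
    rw [Algebra.smul_def, map_mul, map_mul, ha, AlgHom.commutes]
    congr 1
    rw [IsScalarTower.algebraMap_apply k (Poly k r) (Loc k r), ofLoc_algebraMap]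
    exact (ev k r).commutes c

theorem toLoc_ofLoc (a : Loc k r) : toLoc k r (ofLoc k r a) = a := by
  have h : (toLoc k r).toRingHom.comp (ofLoc k r) = RingHom.id _ := by
    refine IsLocalization.ringHom_ext (Submonoid.powers (prodX k r)) ?_
    refine MvPolynomial.ringHom_ext (fun c => ?_) fun i => ?_
    · show toLoc k r (ofLoc k r (algebraMap _ (Loc k r) (MvPolynomial.C c))) = _
      rw [ofLoc_algebraMap, ev, MvPolynomial.aeval_C, AlgHom.commutes]
      exact IsScalarTower.algebraMap_apply k (Poly k r) (Loc k r) c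
    · show toLoc k r (ofLoc k r (algebraMap _ (Loc k r) (MvPolynomial.X i))) = _
      rw [ofLoc_algebraMap, ev, MvPolynomial.aeval_X, toLoc, MonoidAlgebra.lift_of, chi_single]
      rfl
  exact RingHom.congr_fun h a

/-- A split torus is open in an affine space. -/
theorem exists_openImmersion_lau (p : ℕ) [Fact p.Prime] :
    ∃ j : sp k (Lau k r) ⟶ W p r SK, IsOpenImmersion j.left := by
  let e : Loc k r ≃+* Lau k r := RingEquiv.ofRingHom (ofLoc k r) (toLoc k r).toRingHom
    (RingHom.ext (ofLoc_toLoc k r)) (RingHom.ext (toLoc_ofLoc k r))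
  let j₀ : Spec (CommRingCat.of (Lau k r)) ⟶ Spec (CommRingCat.of (Poly k r)) :=
    Spec.map e.toCommRingCatIso.hom ≫ Spec.map (CommRingCat.ofHom (algebraMap (Poly k r) (Loc k r)))
  haveI : IsOpenImmersion (Spec.map (CommRingCat.ofHom (algebraMap (Poly k r) (Loc k r)))) :=
    IsOpenImmersion.of_isLocalization (prodX k r)
  let I := AffineSpace.SpecIso (ULift.{u} (Fin r)) (CommRingCat.of k)
  refine ⟨Over.homMk (j₀ ≫ I.inv) ?_, ?_⟩
  · show (j₀ ≫ I.inv) ≫ 𝔸(ULift.{u} (Fin r); SK) ↘ SK = Spec.map (CommRingCat.ofHom (algebraMap k (Lau k r)))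
    rw [Category.assoc, AffineSpace.SpecIso_inv_over]
    simp only [j₀, Category.assoc, ← Spec.map_comp]
    congr 1
    refine CommRingCat.hom_ext (RingHom.ext fun c => ?_)
    exact (ofLoc_algebraMap k r _).trans (MvPolynomial.aeval_C _ c)
  · show IsOpenImmersion (j₀ ≫ I.inv)
    infer_instance

end Laurent

variable [IsAlgClosed k]

/-- A connected commutative affine group has an additive subgroup with smaller quotient, or is a torus. -/
theorem exists_quot_ga (p : ℕ) [Fact p.Prime] (G : Over SK) [GrpObj G] [IsCommMonObj G] [Smooth G.hom]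
    [ConnectedSpace ↥G.left] [IsAffine G.left] :
    Red.IsTorus G ∨ ∃ (Q : Over SK) (_ : GrpObj Q) (_ : IsCommMonObj Q) (i : W p 1 SK ⟶ G) (q : G ⟶ Q),
      IsMonHom i ∧ IsMonHom q ∧ Surjective q.left ∧ Flat q.left ∧ AlgGrp.IsKernel i q ∧ Smooth Q.hom ∧
      ConnectedSpace ↥Q.left ∧ IsAffine Q.left ∧ topologicalKrullDim Q.left < topologicalKrullDim G.left := by
  haveI : QuasiCompact G.hom := inferInstance
  refine (SemiAbLib.isTorus_or_exists_ga G).imp_right fun ⟨j, hj, hjc⟩ => ?_
  obtain ⟨e, he, -⟩ := Groth.Agent.S12181.result p SK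
  haveI := he; haveI := hj; haveI := hjc
  let i : W p 1 SK ⟶ G := e.hom ≫ j
  haveI : IsIso e.hom.left := (Over.forget _).map_isIso e.hom
  haveI : IsClosedImmersion i.left := by simp only [i, Over.comp_left]; infer_instance
  haveI : Mono i := Over.mono_of_mono_left i
  haveI : Flat (W p 1 SK).hom := inferInstance
  haveI : QuasiCompact i.left := inferInstance
  obtain ⟨Q, _, q, hqm, hqf, hqs, -, hker, hQsep, -, hQsm⟩ := Groth.Agent.S3030.result k (W p 1 SK) G i
    (fun T g m => ⟨m, by
      letI : CommGroup (T ⟶ G) := Hom.commGroup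
      rw [_root_.mul_comm g, mul_inv_cancel_right]⟩)
  haveI := hqm; haveI := hqf; haveI := hqs; haveI := hQsep; haveI := hQsm inferInstance
  haveI : IsAffine Q.left := AntiAffLib.isAffine_of_surjective_hom q
  haveI : ConnectedSpace ↥Q.left := q.left.surjective.connectedSpace q.left.continuous
  haveI : QuasiCompact Q.hom := inferInstance
  haveI : LocallyOfFinitePresentation q.left := AntiAffLib.lfp_of_lft q
  haveI : QuasiCompact q.left := WittGrpLib.quasiCompact_left q
  haveI hQc : IsCommMonObj Q := AntiAffLib.CommCat.isComm_of_epi q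
  refine ⟨Q, inferInstance, hQc, i, q, inferInstance, hqm, hqs, hqf, hker, inferInstance, inferInstance,
    inferInstance, ?_⟩
  haveI := AlbLib.geometricallyIntegral_grp G
  haveI := AlbLib.geometricallyIntegral_grp Q
  haveI : IsIntegral G.left := GeometricallyIntegral.isIntegral_of_subsingleton G.hom
  haveI : IsIntegral Q.left := GeometricallyIntegral.isIntegral_of_subsingleton Q.hom
  haveI : LocallyOfFiniteType q.left := Groth.Agent.GrpHom.lft_left q
  obtain ⟨x⟩ : Nonempty G.left := inferInstance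
  have h1 := FibDimLib.localDim_eq_add_fibreDimAt Q.hom q.left x
  rw [FibDimLib.localDim_of_irreducible G.hom x, FibDimLib.localDim_of_irreducible Q.hom (q.left x)] at h1
  refine lt_of_le_of_ne (h1 ▸ le_add_of_nonneg_right (AlgSpLib.fibreDimAt_nonneg _ _)) fun hdim => ?_
  haveI := SemiAbLib.isFinite_of_surjective_of_dim q hdim.symm
  haveI : IsFinite (W p 1 SK).hom := by
    have h2 := (hker.map (Over.forget _))
    have h3 : IsFinite (toUnit (W p 1 SK)).left := MorphismProperty.of_isPullback (P := @IsFinite) h2 ‹_›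
    rw [← Over.w (toUnit (W p 1 SK))]
    haveI : IsIso (𝟙_ (Over SK)).hom := inferInstanceAs (IsIso (𝟙 _))
    exact inferInstanceAs (IsFinite ((toUnit (W p 1 SK)).left ≫ (𝟙_ (Over SK)).hom))
  haveI := UnipStruct.finite_pts (W p 1 SK)
  haveI : Finite k := Finite.of_injective
    (fun c => evEquiv.symm (TruncatedWittVector.mk p fun _ : Fin 1 => c) : k → (PT ⟶ W p 1 SK)) fun a b h => by
      have := congrArg (fun v : TruncatedWittVector p 1 k => v.coeff 0) (evEquiv.symm.injective h)
      simpa using this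
  exact not_finite k

/-- An extension by the additive group is a product as a scheme. -/
theorem exists_iso_tensor_of_ext {p : ℕ} [Fact p.Prime] {G Q : Over SK} [GrpObj G] [IsCommMonObj G] [Smooth G.hom]
    [IsAffine G.left] [GrpObj Q] [Smooth Q.hom] [IsAffine Q.left] (i : W p 1 SK ⟶ G) [IsMonHom i] (q : G ⟶ Q)
    [IsMonHom q] [Surjective q.left] [Flat q.left] (hker : AlgGrp.IsKernel i q) :
    Nonempty (G ≅ Q ⊗ W p 1 SK) := by
  haveI : QuasiCompact G.hom := inferInstance
  haveI : IsSeparated G.hom := inferInstance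
  haveI : IsReduced G.left := AlgSpLib.isReduced_of_smooth G.hom
  haveI : Smooth (fst Q (W p 1 SK)).left := MorphismProperty.pullback_fst _ _ inferInstance
  haveI : Smooth (Q ⊗ W p 1 SK).hom := by rw [← Over.w (fst Q (W p 1 SK))]; infer_instance
  haveI : IsReduced (Q ⊗ W p 1 SK).left := AlgSpLib.isReduced_of_smooth (Q ⊗ W p 1 SK).hom
  haveI : IsSeparated (Q ⊗ W p 1 SK).hom := inferInstanceAs
    (IsSeparated (pullback.fst Q.hom (W p 1 SK).hom ≫ Q.hom))
  obtain ⟨σ, ρ, h1, h2, hd, he⟩ := UnipStruct.exists_sec G Q i q hker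
  let Φ : G ⟶ Q ⊗ W p 1 SK := lift q ρ
  let Ψ : Q ⊗ W p 1 SK ⟶ G := (fst _ _ ≫ σ) * (snd _ _ ≫ i)
  have hΦΨ : Φ ≫ Ψ = 𝟙 G := AVAmpleLib.hom_ext_of_points _ _ fun x => by
    simp only [Φ, Ψ, MonObj.comp_mul, Category.comp_id, lift_fst_assoc, lift_snd_assoc]
    exact (hd x).symm
  have hΨΦ : Ψ ≫ Φ = 𝟙 _ := AVAmpleLib.hom_ext_of_points _ _ fun x => by
    refine CartesianMonoidalCategory.hom_ext _ _ ?_ ?_
    · simp only [Φ, Ψ, Category.assoc, lift_fst, Category.id_comp, MonObj.mul_comp, MonObj.comp_mul]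
      rw [h1, hker.w, Category.comp_id, ← Category.assoc (snd Q (W p 1 SK)),
        toUnit_unique (snd Q (W p 1 SK) ≫ toUnit _) (toUnit _), ← Hom.one_def, MonObj.comp_one, _root_.mul_one]
    · simp only [Φ, Ψ, Category.assoc, lift_snd, Category.id_comp]
      rw [← Category.assoc x, MonObj.comp_mul, ← Category.assoc x (snd _ _), he, Category.assoc, Category.assoc, h2,
        MonObj.comp_one, MonObj.comp_one, _root_.one_mul]
  exact ⟨⟨Φ, Ψ, hΦΨ, hΨΦ⟩⟩

/-- A trivial group is the point. -/
theorem iso_of_trivial (p : ℕ) [Fact p.Prime] (G : Over SK) [GrpObj G] [Smooth G.hom] [IsAffine G.left]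
    (h : ∀ a : PT ⟶ G, a = 1) : Nonempty (W p 0 SK ≅ G) := by
  haveI : IsSeparated G.hom := inferInstance
  haveI : IsReduced G.left := AlgSpLib.isReduced_of_smooth G.hom
  refine ⟨(⟨1, 1, UnipStruct.hom_W_zero _ _, ?_⟩ : W p 0 SK ≅ G)⟩
  exact AVAmpleLib.hom_ext_of_points (A := G) (C := G) _ _ fun a => (h _).trans (h _).symm

/-- A connected commutative affine group is open in an affine space. -/
theorem exists_openImmersion (p : ℕ) [Fact p.Prime] (G : Over SK) [GrpObj G] [IsCommMonObj G] [Smooth G.hom]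
    [ConnectedSpace ↥G.left] [IsAffine G.left] : ∃ (n : ℕ) (j : G ⟶ W p n SK), IsOpenImmersion j.left := by
  induction hd : topologicalKrullDim G.left using WellFoundedLT.induction generalizing G with
  | ind d ih =>
    rcases exists_quot_ga p G with hT | ⟨Q, _, _, i, q, hi, hq, hqs, hqf, hker, hQs, hQc, hQa, hlt⟩
    · obtain ⟨r, v, -, -⟩ := SemiAbLib.exists_laurent_iso hT
      obtain ⟨j, hj⟩ := exists_openImmersion_lau k r p
      haveI := hj
      haveI : IsIso v.inv.left := (Over.forget _).map_isIso v.inv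
      exact ⟨r, v.inv ≫ j, by rw [Over.comp_left]; infer_instance⟩
    haveI := hi; haveI := hq; haveI := hqs; haveI := hqf; haveI := hQs; haveI := hQc; haveI := hQa
    obtain ⟨n, j, hj⟩ := ih _ (hd ▸ hlt) Q rfl
    haveI := hj
    obtain ⟨Φ⟩ := exists_iso_tensor_of_ext i q hker
    obtain ⟨c⟩ := UnipStruct.exists_iso_tensor (p := p) (Iso.refl (W p n SK)) (Iso.refl (W p 1 SK))
    let j' : G ⟶ W p (n + 1) SK := Φ.hom ≫ j ▷ W p 1 SK ≫ c.inv
    haveI : IsIso Φ.hom.left := (Over.forget _).map_isIso Φ.hom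
    haveI : IsIso c.inv.left := (Over.forget _).map_isIso c.inv
    haveI : IsOpenImmersion (j ▷ W p 1 SK).left := MorphismProperty.of_isPullback (P := @IsOpenImmersion)
      ((WittExtLib.isPullback_whiskerRight j (W p 1 SK)).flip) hj
    exact ⟨n + 1, j', by simp only [j', Over.comp_left]; infer_instance⟩

end AxisTriv
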