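import Groth.Agent.AxisTrivLib.Geom
import Groth.Agent.AxisTrivLib.Shape
import Groth.Agent.ExtGmLib.Basic
import Groth.Agent.AlbLib.AVBasic
import Groth.Agent.AVIndexLib.DualHom
import Groth.Agent.S11936
import Groth.Agent.TwistLib.Basic

/-!
Invertible modules on a product of groups, trivial along the axes.
-/

set_option autoImplicit false
set_option linter.style.haveILetI false
set_option backward.isDefEq.respectTransparency false
set_option maxHeartbeats 1000000

noncomputable section

universe u

open CategoryTheory CategoryTheory.Limits MonoidalCategory CartesianMonoidalCategory MonObj AlgebraicGeometry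
open TopologicalSpace
open AmpleLib (GenOn res)
open KFlatLib (pb puSec)
open QCohDescLib (pullLE)
open DescAppLib (genOn_pullLE appLE_top smul_left_cancel top_le)

namespace AxisTriv

variable {k : Type u} [Field k] (P Q : Over (Spec (CommRingCat.of k)))

/-- After extension to an algebraically closed field the module is trivial. -/
theorem trivial_algClosed {K : Type u} [Field K] [IsAlgClosed K] (f : Spec (CommRingCat.of K) ⟶ Spec (CommRingCat.of k))
    [GrpObj P] [GrpObj Q] [IsCommMonObj P] [IsAffine P.left] [Smooth P.hom] [ConnectedSpace ↥P.left]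
    [Smooth Q.hom] [QuasiCompact Q.hom] [ConnectedSpace ↥Q.left]
    (L : (pullback P.hom Q.hom).Modules) (hL : PicF.IsInvertible L)
    (hQ : PicF.IsTrivialCl (PicF.pullCl (ax₂ P.hom Q.hom (a₀ := η[P].left) (Over.w η[P])) (PicF.cl L))) :
    PicF.IsTrivialCl (PicF.pullCl (pullback.fst (str P.hom Q.hom) f) (PicF.cl L)) := by
  haveI : Flat f := Groth.Agent.GrpField.flat_field _
  let W := pullback (str P.hom Q.hom) f
  let h := pullback.fst (str P.hom Q.hom) f
  let τ := pullback.snd (str P.hom Q.hom) f
  let PK := Red.bc f P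
  let QK := Red.bc f Q
  haveI := AlbLib.geometricallyIntegral_grp P
  haveI := AlbLib.geometricallyIntegral_grp Q
  haveI : IsIntegral (pullback P.hom f) :=
    GeometricallyIntegral.geometrically_isIntegral _ _ _ (IsPullback.of_hasPullback _ _)
  haveI : IsIntegral (pullback Q.hom f) :=
    GeometricallyIntegral.geometrically_isIntegral _ _ _ (IsPullback.of_hasPullback _ _)
  haveI : IsIntegral PK.left := ‹IsIntegral (pullback P.hom f)›
  haveI : IsIntegral QK.left := ‹IsIntegral (pullback Q.hom f)›
  haveI : Smooth PK.hom := inferInstanceAs (Smooth (pullback.snd P.hom f))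
  haveI : IsAffine PK.left := inferInstanceAs (IsAffine (pullback P.hom f))
  haveI : ConnectedSpace ↥PK.left := inferInstance
  haveI : IsCommMonObj PK := ExtGm.isCommMonObj_bc f
  haveI : Fact (Nat.Prime 2) := ⟨Nat.prime_two⟩
  obtain ⟨n, j, hj⟩ := exists_openImmersion 2 PK
  haveI := hj
  let qB := pullback.snd Q.hom f
  haveI : IsNoetherian (pullback Q.hom f) := by
    haveI : LocallyOfFiniteType qB := inferInstance
    haveI : QuasiCompact qB := inferInstance
    haveI : IsLocallyNoetherian (pullback Q.hom f) := LocallyOfFiniteType.isLocallyNoetherian qB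
    haveI : CompactSpace (pullback Q.hom f : Scheme.{u}) := QuasiCompact.compactSpace_of_compactSpace qB
    exact {}
  have hN : Pi1.IsNormalScheme (pullback Q.hom f) := by
    letI : (pullback Q.hom f).Over (Spec (CommRingCat.of K)) := ⟨qB⟩
    haveI : Smooth ((pullback Q.hom f) ↘ Spec (CommRingCat.of K)) := inferInstanceAs (Smooth qB)
    exact HurwitzLib.isNormalScheme_of_smooth (k := K)
  have hs : str P.hom Q.hom = pullback.snd P.hom Q.hom ≫ Q.hom := pullback.condition
  let π₁ : W ⟶ pullback P.hom f := pullback.lift (h ≫ pullback.fst P.hom Q.hom) τ (by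
    rw [Category.assoc]; exact pullback.condition)
  let π₂ : W ⟶ pullback Q.hom f := pullback.lift (h ≫ pullback.snd P.hom Q.hom) τ (by
    rw [Category.assoc, ← hs]; exact pullback.condition)
  have hW : π₁ ≫ pullback.snd P.hom f = π₂ ≫ qB :=
    (pullback.lift_snd _ _ _).trans (pullback.lift_snd _ _ _).symm
  have H : IsPullback π₁ π₂ (pullback.snd P.hom f) qB := by
    refine ⟨⟨hW⟩, ⟨PullbackCone.IsLimit.mk _ (fun s => pullback.lift
      (pullback.lift (s.fst ≫ pullback.fst P.hom f) (s.snd ≫ pullback.fst Q.hom f) ?_) (s.fst ≫ pullback.snd P.hom f) ?_)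
      (fun s => ?_) (fun s => ?_) fun s m hm₁ hm₂ => ?_⟩⟩
    · simp only [Category.assoc, pullback.condition]
      exact congrArg (· ≫ f) s.condition |>.trans (Category.assoc _ _ _) |> (Category.assoc _ _ _).symm.trans
    · show _ ≫ pullback.fst P.hom Q.hom ≫ P.hom = _
      rw [pullback.lift_fst_assoc, Category.assoc, Category.assoc, pullback.condition]
    · apply pullback.hom_ext <;> simp [π₁, h, τ]
    · apply pullback.hom_ext
      · simp [π₂, h]
      · simp only [π₂, τ, Category.assoc, pullback.lift_snd]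
        exact s.condition
    · show m = pullback.lift _ _ _
      apply pullback.hom_ext
      · apply pullback.hom_ext <;> simp [π₁, π₂, h, ← hm₁, ← hm₂]
      · simp [π₁, τ, ← hm₁]
  let aK : Spec (CommRingCat.of K) ⟶ pullback P.hom f := pullback.lift (f ≫ η[P].left) (𝟙 _) (by
    rw [Category.assoc, Category.id_comp]
    exact (congrArg (f ≫ ·) (Over.w η[P])).trans (Category.comp_id f))
  refine trivial_of_open (n := n) j.left (pullback.snd P.hom f) (Over.w j) qB hN π₁ π₂ H aK (pullback.lift_snd _ _ _) _
    (AmpleDevLib.isInvertible_pb h hL) fun σ hσ₁ hσ₂ => ?_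
  have hσ : σ ≫ h = pullback.fst Q.hom f ≫ ax₂ P.hom Q.hom (a₀ := η[P].left) (Over.w η[P]) := by
    apply pullback.hom_ext
    · have := congrArg (· ≫ pullback.fst P.hom f) hσ₁
      simp only [π₁, aK, Category.assoc, pullback.lift_fst] at this
      rw [Category.assoc, this, Category.assoc, ax₂_fst, ← pullback.condition_assoc]
    · have := congrArg (· ≫ pullback.fst Q.hom f) hσ₂
      simp only [π₂, Category.assoc, pullback.lift_fst, Category.id_comp] at this
      rw [Category.assoc, this, Category.assoc, ax₂_snd, Category.comp_id]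
  show PicF.IsTrivialCl (PicF.pullCl σ (PicF.pullCl h (PicF.cl L)))
  rw [PicRelBCLib.pullCl_pullCl, hσ, ← PicRelBCLib.pullCl_pullCl]
  exact isTrivialCl_pull _ hQ

/-- A module trivial along both axes of a product of groups is trivial. -/
theorem trivial_of_axes [PerfectField k] [GrpObj P] [GrpObj Q] [IsCommMonObj P] [IsAffine P.left] [Smooth P.hom]
    [ConnectedSpace ↥P.left] [Smooth Q.hom] [QuasiCompact Q.hom] [ConnectedSpace ↥Q.left]
    (L : (pullback P.hom Q.hom).Modules) (hL : PicF.IsInvertible L)
    (hP : PicF.IsTrivialCl (PicF.pullCl (ax₁ P.hom Q.hom (b₀ := η[Q].left) (Over.w η[Q])) (PicF.cl L)))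
    (hQ : PicF.IsTrivialCl (PicF.pullCl (ax₂ P.hom Q.hom (a₀ := η[P].left) (Over.w η[P])) (PicF.cl L))) :
    PicF.IsTrivialCl (PicF.cl L) := by
  let p := P.hom
  let q := Q.hom
  let a₀ : Spec (CommRingCat.of k) ⟶ P.left := η[P].left
  let b₀ : Spec (CommRingCat.of k) ⟶ Q.left := η[Q].left
  have ha : a₀ ≫ p = 𝟙 _ := Over.w η[P]
  have hb : b₀ ≫ q = 𝟙 _ := Over.w η[Q]
  haveI := AlbLib.geometricallyIntegral_grp P
  haveI := AlbLib.geometricallyIntegral_grp Q
  haveI : GeometricallyConnected p := AVIndexLib.geometricallyConnected_of_integral p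
  haveI : GeometricallyConnected q := AVIndexLib.geometricallyConnected_of_integral q
  haveI : GeometricallyReduced p := AbSchLib.geometricallyReduced_of_smooth p
  haveI : GeometricallyReduced q := AbSchLib.geometricallyReduced_of_smooth q
  obtain ⟨α, hα⟩ := CubeLib.exists_genOn_top (nonempty_iso_of_isTrivialCl hP)
  obtain ⟨β, hβ⟩ := CubeLib.exists_genOn_top (nonempty_iso_of_isTrivialCl hQ)
  obtain ⟨c, hcu, hce⟩ := exists_unit (genOn_pullLE L b₀ (h' := b₀ ≫ ax₂ p q ha) rfl (top_le _) hβ)
    (genOn_pullLE L a₀ (origin p q ha hb) (top_le _) hα)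
  let β' := q.appTop c • β
  have hβ' : GenOn _ β' := CubeLib.genOn_unit_smul hβ (hcu.map q.appTop.hom)
  have hab : pullLE L a₀ (origin p q ha hb) (top_le _) α = pullLE L b₀ rfl (top_le _) β' := by
    rw [show β' = q.appTop c • β from rfl, QCohDescLib.pullLE_smul, appLE_top, appTop_eq b₀ q hb, ← hce]
    rfl
  let K := AlgebraicClosure k
  let f : Spec (CommRingCat.of K) ⟶ Spec (CommRingCat.of k) := Spec.map (CommRingCat.ofHom (algebraMap k K))
  haveI : Flat f := Groth.Agent.GrpField.flat_field _
  haveI : Surjective f := ⟨fun z => ⟨(⊥ : PrimeSpectrum K), @Subsingleton.elim (PrimeSpectrum k) inferInstance _ _⟩⟩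
  let W := pullback (str p q) f
  let h := pullback.fst (str p q) f
  haveI : Flat h := inferInstance
  haveI : Surjective h := inferInstance
  haveI : QuasiCompact h := inferInstance
  haveI : Coh.IsQCoh L := TwistLib.isQCoh_of_isInvertible hL
  obtain ⟨s₀, hs₀⟩ := CubeLib.exists_genOn_top (nonempty_iso_of_isTrivialCl (trivial_algClosed P Q f L hL hQ))
  obtain ⟨s, hs, n₁, n₂⟩ := exists_norm p q ha hb f hα hβ' hab hs₀
  let T := pullback f f
  let t : T ⟶ Spec (CommRingCat.of k) := pullback.fst f f ≫ f
  let W₂ := pullback (str p q) t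
  let h₂ := pullback.fst (str p q) t
  haveI : IsReduced T := Groth.Agent.S11936.isReduced_pullback_perfect f f
  haveI : IsReduced P.left := AlgSpLib.isReduced_of_smooth P.hom
  haveI : IsReduced Q.left := AlgSpLib.isReduced_of_smooth Q.hom
  haveI : IsReduced (pullback p q) := Groth.Agent.S11936.isReduced_pullback_perfect p q
  haveI : IsReduced W₂ := Groth.Agent.S11936.isReduced_pullback_perfect (str p q) t
  let g₁ : W₂ ⟶ W := pullback.lift h₂ (pullback.snd _ _ ≫ pullback.fst f f) (by
    rw [Category.assoc]; exact pullback.condition)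
  let g₂ : W₂ ⟶ W := pullback.lift h₂ (pullback.snd _ _ ≫ pullback.snd f f) (by
    rw [Category.assoc, ← pullback.condition (f := f)]; exact pullback.condition)
  have eg₁ : g₁ ≫ h = h₂ := pullback.lift_fst _ _ _
  have eg₂ : g₂ ≫ h = h₂ := pullback.lift_fst _ _ _
  have hagree : pullLE L g₁ eg₁ (top_le _) s = pullLE L g₂ eg₂ (top_le _) s :=
    Norm.unique hα hβ' (IsPullback.of_hasPullback (str p q) t) (genOn_pullLE L g₁ eg₁ (top_le _) hs)
      (genOn_pullLE L g₂ eg₂ (top_le _) hs) (n₁.pull g₁ eg₁) (n₂.pull g₁ eg₁) (n₁.pull g₂ eg₂) (n₂.pull g₂ eg₂)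
  have hmem : Presieve.ofArrows (fun _ : PUnit.{u + 1} => W) (fun _ => h) ∈ Scheme.fpqcPrecoverage (pullback p q) := by
    rw [Presieve.ofArrows_pUnit]
    exact Scheme.Hom.singleton_mem_fpqcPrecoverage h
  have hcompat : QCohDescLib.Compat (fun _ : PUnit.{u + 1} => h) L ⊤ (fun _ => s) := by
    intro _ _ Y a b hY ea eb O la lb
    let l : Y ⟶ W₂ := pullback.lift hY (pullback.lift (a ≫ pullback.snd _ _) (b ≫ pullback.snd _ _) (by
      rw [Category.assoc, Category.assoc, ← pullback.condition, ← Category.assoc a, ← Category.assoc b]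
      exact congrArg (· ≫ str p q) (ea.trans eb.symm))) (by
      simp only [t, pullback.lift_fst_assoc, Category.assoc]
      rw [← pullback.condition, reassoc_of% ea])
    have hl₁ : l ≫ g₁ = a := by
      apply pullback.hom_ext
      · rw [Category.assoc, eg₁, ea]; exact pullback.lift_fst _ _ _
      · simp [l, g₁]
    have hl₂ : l ≫ g₂ = b := by
      apply pullback.hom_ext
      · rw [Category.assoc, eg₂, eb]; exact pullback.lift_fst _ _ _
      · simp [l, g₂]
    have el : l ≫ h₂ = hY := pullback.lift_fst _ _ _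
    have h1 := congrArg (pullLE L l el (O' := O) (le_top.trans (top_le _))) hagree
    rw [QCohDescLib.pullLE_pullLE L g₁ l eg₁ el (by rw [hl₁]; exact ea) (top_le _) (le_top.trans (top_le _))
        (le_top.trans (top_le _)),
      QCohDescLib.pullLE_pullLE L g₂ l eg₂ el (by rw [hl₂]; exact eb) (top_le _) (le_top.trans (top_le _))
        (le_top.trans (top_le _)),
      QCohDescLib.pullLE_congr L hl₁ _ ea (le_top.trans (top_le _)) la,
      QCohDescLib.pullLE_congr L hl₂ _ eb (le_top.trans (top_le _)) lb] at h1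
    exact h1
  obtain ⟨σ, hσ⟩ := QCohDescLib.exists_descend_section (fun _ : PUnit.{u + 1} => h) hmem L ⊤ (fun _ => s) hcompat
  have hgen : GenOn L σ := TwistLib.genOn_of_genAt fun x _ => by
    obtain ⟨z, rfl⟩ := h.surjective x
    obtain ⟨U, e, hxU, he⟩ := TwistLib.exists_genOn hL (h z)
    refine (TwistLib.genAt_puSec_iff h he σ (x := z) hxU).1 ?_
    show AmpleLib.GenAt (pb h L) (show Γ(pb h L, (⊤ : W.Opens)) from puSec h σ) (show z ∈ (⊤ : W.Opens) from trivial)
    rw [show (show Γ(pb h L, (⊤ : W.Opens)) from puSec h σ) = s from hσ PUnit.unit]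
    exact hs.genAt _
  exact Quot.sound (CubeLib.trivial_of_genOn_top hgen)

end AxisTriv
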