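import Groth.Agent.UnitRigidLib.Core
import Groth.Agent.DescAppLib.LineData
import Groth.Agent.QCohDescLib.Family

/-!
Trivialisations on a product normalised along the two axes.
-/

set_option autoImplicit false
set_option linter.style.haveILetI false
set_option backward.isDefEq.respectTransparency false
set_option maxHeartbeats 1000000

noncomputable section

universe u

open CategoryTheory CategoryTheory.Limits AlgebraicGeometry TopologicalSpace
open AmpleLib (GenOn res)
open KFlatLib (pb puSec)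
open QCohDescLib (pullLE)
open DescAppLib (genOn_pullLE appLE_top smul_left_cancel top_le)

namespace AxisTriv

theorem appTop_eq {X Y Z : Scheme.{u}} (f : X ⟶ Y) (g : Y ⟶ Z) {h : X ⟶ Z} (e : f ≫ g = h) (r : Γ(Z, ⊤)) :
    f.appTop (g.appTop r) = h.appTop r := DescAppLib.appTop_comp f g e r

/-- On a reduced scheme a function is determined at geometric points. -/
theorem eq_of_geomPoints {W : Scheme.{u}} [IsReduced W] {u v : Γ(W, ⊤)}
    (h : ∀ (Ω : Type u) [Field Ω] [IsAlgClosed Ω] (ξ : Spec (CommRingCat.of Ω) ⟶ W), ξ.appTop u = ξ.appTop v) :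
    u = v := by
  rw [← sub_eq_zero, ← basicOpen_eq_bot_iff]
  refine (eq_bot_iff.2 fun z hz => ?_)
  exfalso
  let Ω := AlgebraicClosure (W.residueField z)
  let ξ : Spec (CommRingCat.of Ω) ⟶ W :=
    Spec.map (CommRingCat.ofHom (algebraMap (W.residueField z) Ω)) ≫ W.fromSpecResidueField z
  have hξ : ∀ y, ξ y = z := fun y => W.fromSpecResidueField_apply z _
  have h0 : ξ.appTop (u - v) = 0 := by rw [map_sub, h Ω ξ, sub_self]
  have hb : ξ ⁻¹ᵁ W.basicOpen (u - v) = (Spec (CommRingCat.of Ω)).basicOpen (ξ.appTop (u - v)) :=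
    Scheme.preimage_basicOpen_top ξ _
  rw [h0, Scheme.basicOpen_zero] at hb
  have hy : (⊥ : PrimeSpectrum Ω) ∈ ξ ⁻¹ᵁ W.basicOpen (u - v) := by
    show ξ _ ∈ W.basicOpen (u - v)
    rw [hξ]; exact hz
  rw [hb] at hy
  exact hy

section Ctx

variable {k : Type u} [Field k] {A B : Scheme.{u}} (p : A ⟶ Spec (CommRingCat.of k))
  (q : B ⟶ Spec (CommRingCat.of k)) {a₀ : Spec (CommRingCat.of k) ⟶ A} (ha : a₀ ≫ p = 𝟙 _)
  {b₀ : Spec (CommRingCat.of k) ⟶ B} (hb : b₀ ≫ q = 𝟙 _)

abbrev str : pullback p q ⟶ Spec (CommRingCat.of k) := pullback.fst p q ≫ p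

/-- The axis through the point of the second factor. -/
def ax₁ : A ⟶ pullback p q :=
  pullback.lift (𝟙 A) (p ≫ b₀) (by rw [Category.id_comp, Category.assoc, hb, Category.comp_id])

/-- The axis through the point of the first factor. -/
def ax₂ : B ⟶ pullback p q :=
  pullback.lift (q ≫ a₀) (𝟙 B) (by rw [Category.id_comp, Category.assoc, ha, Category.comp_id])

@[reassoc (attr := simp)] theorem ax₁_fst : ax₁ p q hb ≫ pullback.fst p q = 𝟙 A := pullback.lift_fst _ _ _
@[reassoc (attr := simp)] theorem ax₁_snd : ax₁ p q hb ≫ pullback.snd p q = p ≫ b₀ := pullback.lift_snd _ _ _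
@[reassoc (attr := simp)] theorem ax₂_fst : ax₂ p q ha ≫ pullback.fst p q = q ≫ a₀ := pullback.lift_fst _ _ _
@[reassoc (attr := simp)] theorem ax₂_snd : ax₂ p q ha ≫ pullback.snd p q = 𝟙 B := pullback.lift_snd _ _ _

theorem ax₁_str : ax₁ p q hb ≫ str p q = p := by simp

theorem ax₂_str : ax₂ p q ha ≫ str p q = q := by
  rw [ax₂_fst_assoc, ha, Category.comp_id]

theorem origin : a₀ ≫ ax₁ p q hb = b₀ ≫ ax₂ p q ha := by
  apply pullback.hom_ext
  · simp [reassoc_of% hb]
  · simp [reassoc_of% ha]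

variable [LocallyOfFiniteType p] [LocallyOfFiniteType q] [GeometricallyReduced p] [GeometricallyConnected p]
  [GeometricallyReduced q] [GeometricallyConnected q]

/-- A unit on a base change of the product which is `1` on both axes is `1`. -/
theorem eq_one_rel {T W : Scheme.{u}} {t : T ⟶ Spec (CommRingCat.of k)} {h : W ⟶ pullback p q} {τ : W ⟶ T}
    (H : IsPullback h τ (str p q) t) [IsReduced W] {u : Γ(W, ⊤)} (hu : IsUnit u)
    (h₁ : ∀ (Y : Scheme.{u}) (c : Y ⟶ W) (d : Y ⟶ A), c ≫ h = d ≫ ax₁ p q hb → c.appTop u = 1)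
    (h₂ : ∀ (Y : Scheme.{u}) (c : Y ⟶ W) (d : Y ⟶ B), c ≫ h = d ≫ ax₂ p q ha → c.appTop u = 1) :
    u = 1 := by
  refine eq_of_geomPoints fun Ω _ _ ξ => ?_
  let f : Spec (CommRingCat.of Ω) ⟶ Spec (CommRingCat.of k) := ξ ≫ τ ≫ t
  let pX := pullback.snd p f
  let pY := pullback.snd q f
  have : IsReduced (pullback p f) :=
    GeometricallyReduced.geometrically_isReduced _ _ _ (IsPullback.of_hasPullback _ _)
  have : IsReduced (pullback q f) :=
    GeometricallyReduced.geometrically_isReduced _ _ _ (IsPullback.of_hasPullback _ _)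
  have : ConnectedSpace (pullback p f : Scheme.{u}) :=
    GeometricallyConnected.geometrically_connectedSpace _ _ _ (IsPullback.of_hasPullback _ _)
  have : ConnectedSpace (pullback q f : Scheme.{u}) :=
    GeometricallyConnected.geometrically_connectedSpace _ _ _ (IsPullback.of_hasPullback _ _)
  let eX : Spec (CommRingCat.of Ω) ⟶ pullback p f :=
    pullback.lift (f ≫ a₀) (𝟙 _) (by rw [Category.assoc, ha, Category.comp_id, Category.id_comp])
  let eY : Spec (CommRingCat.of Ω) ⟶ pullback q f :=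
    pullback.lift (f ≫ b₀) (𝟙 _) (by rw [Category.assoc, hb, Category.comp_id, Category.id_comp])
  have hX : eX ≫ pX = 𝟙 _ := pullback.lift_snd _ _ _
  have hY : eY ≫ pY = 𝟙 _ := pullback.lift_snd _ _ _
  have hπc : pullback.fst pX pY ≫ pullback.fst p f ≫ p = pullback.snd pX pY ≫ pullback.fst q f ≫ q := by
    rw [pullback.condition, pullback.condition (f := q), pullback.condition_assoc (f := pX)]
  let π₀ : pullback pX pY ⟶ pullback p q :=
    pullback.lift (pullback.fst pX pY ≫ pullback.fst p f) (pullback.snd pX pY ≫ pullback.fst q f)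
      (by simpa only [Category.assoc] using hπc)
  have hπ₀ : π₀ ≫ str p q = (pullback.fst pX pY ≫ pX ≫ ξ ≫ τ) ≫ t := by
    simp only [π₀, str, pX, pullback.lift_fst_assoc, Category.assoc]
    rw [pullback.condition]
  let π : pullback pX pY ⟶ W := H.lift π₀ _ hπ₀
  have hπh : π ≫ h = π₀ := H.lift_fst _ _ _
  have hπτ : π ≫ τ = pullback.fst pX pY ≫ pX ≫ ξ ≫ τ := H.lift_snd _ _ _
  let z₁ : Spec (CommRingCat.of Ω) ⟶ pullback p f :=
    pullback.lift (ξ ≫ h ≫ pullback.fst p q) (𝟙 _) (by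
      simp only [Category.id_comp, Category.assoc, f]
      exact congrArg (ξ ≫ ·) H.w)
  let z₂ : Spec (CommRingCat.of Ω) ⟶ pullback q f :=
    pullback.lift (ξ ≫ h ≫ pullback.snd p q) (𝟙 _) (by
      simp only [Category.id_comp, Category.assoc, f, ← pullback.condition]
      exact congrArg (ξ ≫ ·) H.w)
  let z : Spec (CommRingCat.of Ω) ⟶ pullback pX pY := pullback.lift z₁ z₂ (by simp [z₁, z₂, pX, pY])
  have hz : z ≫ π = ξ := by
    apply H.hom_ext
    · rw [Category.assoc, hπh]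
      apply pullback.hom_ext <;> simp [π₀, z, z₁, z₂]
    · rw [Category.assoc, hπτ]
      simp only [z, z₁, pX, pullback.lift_fst_assoc, pullback.lift_snd_assoc, Category.id_comp]
  have key : π.appTop u = 1 := by
    refine UnitRigidLib.eq_one_of_axes (pX := pX) (pY := pY) hX hY (hu.map π.appTop.hom) ?_ ?_
    · refine (appTop_eq _ π rfl u).trans (h₁ _ _ (pullback.fst p f) ?_)
      rw [Category.assoc, hπh]
      apply pullback.hom_ext
      · simp only [π₀, Category.assoc, pullback.lift_fst, pullback.lift_fst_assoc, ax₁_fst, Category.comp_id]; exact Category.id_comp _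
      · simp only [π₀, eY, pX, Category.assoc, pullback.lift_snd, pullback.lift_snd_assoc, pullback.lift_fst, ax₁_snd]
        rw [pullback.condition_assoc]
    · refine (appTop_eq _ π rfl u).trans (h₂ _ _ (pullback.fst q f) ?_)
      rw [Category.assoc, hπh]
      apply pullback.hom_ext
      · simp only [π₀, eX, pY, Category.assoc, pullback.lift_fst, pullback.lift_fst_assoc, ax₂_fst]
        rw [pullback.condition_assoc]
      · simp only [π₀, Category.assoc, pullback.lift_snd, pullback.lift_snd_assoc, ax₂_snd, Category.comp_id]; exact Category.id_comp _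
  rw [← appTop_eq z π hz, key, map_one, map_one]

end Ctx

section Norm

variable {X Z : Scheme.{u}} (L : X.Modules) (i : Z ⟶ X) (α : Γ(pb i L, ⊤))

/-- A section on a scheme over `X` restricting to a given one along an axis. -/
def Norm {W : Scheme.{u}} (h : W ⟶ X) (s : Γ(pb h L, ⊤)) : Prop :=
  ∀ (Y : Scheme.{u}) (c : Y ⟶ W) (d : Y ⟶ Z) (hY : Y ⟶ X) (ec : c ≫ h = hY) (ed : d ≫ i = hY),
    pullLE L c ec (top_le _) s = pullLE L d ed (top_le _) α

variable {L i α}

theorem Norm.pull {W W' : Scheme.{u}} {h : W ⟶ X} {h' : W' ⟶ X} {s : Γ(pb h L, ⊤)} (hs : Norm L i α h s)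
    (g : W' ⟶ W) (e : g ≫ h = h') : Norm L i α h' (pullLE L g e (top_le _) s) := fun Y c d hY ec ed => by
  rw [QCohDescLib.pullLE_pullLE L g c e ec (by rw [Category.assoc, e, ec]) (top_le _) (top_le _) (top_le _)]
  exact hs Y (c ≫ g) d hY _ ed

theorem Norm.of_universal {W Z' : Scheme.{u}} {h : W ⟶ X} {s : Γ(pb h L, ⊤)} (c₀ : Z' ⟶ W) (d₀ : Z' ⟶ Z)
    {h₀ : Z' ⟶ X} (ec₀ : c₀ ≫ h = h₀) (ed₀ : d₀ ≫ i = h₀)
    (hfac : ∀ (Y : Scheme.{u}) (c : Y ⟶ W) (d : Y ⟶ Z), c ≫ h = d ≫ i → ∃ l : Y ⟶ Z', l ≫ c₀ = c ∧ l ≫ d₀ = d)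
    (hs : pullLE L c₀ ec₀ (top_le _) s = pullLE L d₀ ed₀ (top_le _) α) : Norm L i α h s := by
  intro Y c d hY ec ed
  obtain ⟨l, hl₁, hl₂⟩ := hfac Y c d (ec.trans ed.symm)
  subst hl₁ hl₂
  have el : l ≫ h₀ = hY := by rw [← ec₀, ← Category.assoc, ec]
  rw [← QCohDescLib.pullLE_pullLE L c₀ l ec₀ el ec (top_le _) (top_le _) (top_le _),
    ← QCohDescLib.pullLE_pullLE L d₀ l ed₀ el ed (top_le _) (top_le _) (top_le _), hs]

theorem exists_unit {W : Scheme.{u}} {M : W.Modules} {s s' : Γ(M, ⊤)} (hs : GenOn M s) (hs' : GenOn M s') :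
    ∃ u : Γ(W, ⊤), IsUnit u ∧ u • s = s' := by
  obtain ⟨u, hu⟩ := (hs ⊤ le_rfl).2 s'
  simp only [AmpleLib.res_refl] at hu
  exact ⟨u, CubeLib.isUnit_of_genOn hs (by rw [hu]; exact hs'), hu⟩

end Norm

section Unique

variable {k : Type u} [Field k] {A B : Scheme.{u}} {p : A ⟶ Spec (CommRingCat.of k)}
  {q : B ⟶ Spec (CommRingCat.of k)} {a₀ : Spec (CommRingCat.of k) ⟶ A} {ha : a₀ ≫ p = 𝟙 _}
  {b₀ : Spec (CommRingCat.of k) ⟶ B} {hb : b₀ ≫ q = 𝟙 _}
  [LocallyOfFiniteType p] [LocallyOfFiniteType q] [GeometricallyReduced p] [GeometricallyConnected p]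
  [GeometricallyReduced q] [GeometricallyConnected q]

/-- Normalised trivialisations are unique. -/
theorem Norm.unique {L : (pullback p q).Modules} {α : Γ(pb (ax₁ p q hb) L, ⊤)} {β : Γ(pb (ax₂ p q ha) L, ⊤)}
    (hα : GenOn _ α) (hβ : GenOn _ β) {T W : Scheme.{u}} {t : T ⟶ Spec (CommRingCat.of k)}
    {h : W ⟶ pullback p q} {τ : W ⟶ T} (H : IsPullback h τ (str p q) t) [IsReduced W] {s s' : Γ(pb h L, ⊤)}
    (hs : GenOn _ s) (hs' : GenOn _ s') (n₁ : Norm L _ α h s) (n₂ : Norm L _ β h s) (n₁' : Norm L _ α h s')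
    (n₂' : Norm L _ β h s') : s = s' := by
  obtain ⟨u, hu, rfl⟩ := exists_unit hs hs'
  have hu1 : u = 1 := by
    refine eq_one_rel p q ha hb H hu (fun Y c d e => ?_) (fun Y c d e => ?_)
    · have h1 := n₁' Y c d _ e rfl
      rw [QCohDescLib.pullLE_smul, n₁ Y c d _ e rfl, appLE_top] at h1
      exact smul_left_cancel (genOn_pullLE L d rfl (top_le _) hα) (h1.trans (one_smul _ _).symm)
    · have h1 := n₂' Y c d _ e rfl
      rw [QCohDescLib.pullLE_smul, n₂ Y c d _ e rfl, appLE_top] at h1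
      exact smul_left_cancel (genOn_pullLE L d rfl (top_le _) hβ) (h1.trans (one_smul _ _).symm)
  rw [hu1, one_smul]

end Unique

end AxisTriv
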